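import Cfsg.Agent.TwoF.SpD.Tool2
import Cfsg.Agent.TAB.Ly.Main
import Cfsg.Agent.S2050
import Cfsg.Agent.S2076

/-!
# TwoF SP-D: the row of the Lyons group (helper55)
-/

set_option autoImplicit false
set_option maxHeartbeats 400000
set_option maxRecDepth 100000

namespace Cfsg.Agent.TwoF.SpD.Ly

open Cfsg Subgroup Cfsg.Agent.TwoF.Gen Cfsg.Agent.TAB.Eng Cfsg.Agent.TwoF.SpO Cfsg.Agent.TAB.Ly
open Cfsg.Spor (Ly)
open Cfsg.Agent.H511.Cyc.Ly (dat31 dat37 dat67)
open Cfsg.Agent.H511.Ore.Ly (ex)

/-- `3B` -/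
def c3b : List ℤ := [7840200334070671875, -680073620625000, 183651409096875, -15764707468125, -24311136528000,
    -25895914275000, -15652476551250, -1005593990625, -23251357800000, -17535322715625, -575989734375, 1280105775000,
    2780879850000, 171456140625, -1003347905175, 619281348750, -1289160410625, 813367170000, -1191531363750,
    -2211347840625, -487051727085, -689748635250, -1142764875000, -1143950259375, 13417009375, -214498544337,
    -488106128125, -319494834351, -470141971875]

/-- `3A` -/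
def c3a : List ℤ := [337012884140625, 37762200000, 3790040625, 2077700625, -175699125, 569800000, 374220000,
    983390625, 28771875, 121955625, 329113125, 218700000, 118006875, 153890625, -15436575, 88036875, 81860625,
    93555000, -8505000, 0, 42342993, 79369875, -56700000, 5315625, 42480625, -23819103, -45959375, -64384551,
    -30121875]

/-- order five -/
def c5a : List (ℕ × List ℤ) := [(5, [68278810326890625, 3847024125000, 90513703125, -19627059375, 44100480375,
    38817625000, -32744250000, -1823259375, -5754375000, 11769553125, 13039228125, 0, 4672434375, -725484375,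
    -2827699875, -3755615625, -2327484375, 1496880000, -3944193750, 1578740625, 3397300137, -2191829625, -637875000,
    983390625, 2527215625, 1540719873, -2303984375, -1285614099, 750515625]), (6, [1078441229250000, 47202750000,
    1412437500, -467775000, 351398250, 356125000, -175415625, -127575000, 0, 100237500, 100237500, -45562500,
    31893750, 0, 0, -37462500, -36450000, 0, -31893750, 0, 41762952, -24421500, 0, 0, 20350000, 10029096, -19250000,
    -8307684, 15187500])]

/-- order five -/
def c5b : List (ℕ × List ℤ) := [(5, [13314089250000, 0, -34875000, -11550000, 8676500, 0, 8662500, 3150000, 5328125,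
    -7425000, 0, 0, -787500, 0, -693000, 462500, 0, 866250, -787500, 0, -687456, -301500, 0, 0, 0, 247632, 0, -205128,
    375000]), (6, [13314089250000, 0, -34875000, -11550000, 8676500, 0, 8662500, 3150000, 5328125, -7425000, 0, 0,
    -787500, 0, -693000, 462500, 0, 866250, -787500, 0, -687456, -301500, 0, 0, 0, 247632, 0, -205128, 375000])]

theorem ok3b : okProd dat (irows tb) (fun u => dat.ord u % 31 == 0) 3 3 c3b = true := by decide +kernel

theorem ok3a : okProd dat (irows tb) (fun u => dat.ord u % 2 == 0) 2 2 c3a = true := by decide +kernel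

theorem ok5a : okOrdP dat (irows tb) (fun u => dat.pwf u (dat.ord u / 3) == 2) 5 c5a = true := by decide +kernel

theorem ok5b : okOrdP dat (irows tb) (fun u => dat.pwf u (dat.ord u / 3) == 3) 5 c5b = true := by decide +kernel

variable {T : TD Ly dat}

theorem eb_two (hr : TAB.ON.Rat T) {p n : ℕ} [Fact p.Prime] (h : ∃ t : Ly, orderOf t = 2 ∧ EB p 1 t n) (t : Ly)
    (ht : orderOf t = 2) : EB p 1 t n := by
  have := fin
  obtain ⟨u, h1, h2⟩ := h
  have h3 : ∀ i < dat.n, dat.ord i = 2 → i ∈ [1] := by decide +kernel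
  exact h2.ty hr ((List.mem_singleton.1 (ty_mem h3 ht)).trans (List.mem_singleton.1 (ty_mem h3 h1)).symm)

theorem ty_three {t : Ly} (ht : orderOf t = 3) : T.ty t = 2 ∨ T.ty t = 3 := by
  have := fin
  simpa using ty_mem (T := T) (L := [2, 3]) (by decide +kernel) ht

theorem row (p : ℕ) [hp : Fact p.Prime] : Row p Ly := by
  have := fin
  have ho : ¬ p ∣ Nat.card (Out Ly) := S2076.result ▸ hp.out.not_dvd_one
  obtain ⟨T, hm, hr, hT⟩ := tab
  have h1 : T.ty 1 = 0 := ty_one (by decide +kernel)
  have hW := irr_irows hT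
  by_cases h2 : p = 2
  · subst h2
    refine row_odd ho S2050.result fun E _ j h0 hj => ?_
    obtain ⟨t, h3, h4⟩ := exists_elt (Nat.zero_lt_of_lt h0) hj
    have h5 := le_of_card hj (e := 8) (by rw [card]; norm_num)
    obtain ⟨x, hx⟩ := ex 67 (by norm_num) (by norm_num)
    exact ⟨t, h3, eb_two hr ((eb_ord (n := 66) (by norm_num) (by norm_num) hx (by decide +kernel)).exists_frob (e := 0)
      (by norm_num) (by norm_num) (by norm_num) hx (by norm_num) (by rw [(dat67 hx).2]; norm_num)
      (by rw [(dat67 hx).1]; norm_num) (by omega)) t h4⟩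
  by_cases h3 : p = 3
  · subst h3
    refine row_odd ho S2050.result fun E hE j h0 hj => ?_
    have h4 : ∀ y : Ly, orderOf y = 31 → EB 3 1 y 30 := fun y hy => eb_ord (by norm_num) (by norm_num) hy (by decide)
    by_cases h : ∃ t ∈ E, T.ty t = 3
    · obtain ⟨t, h5, h6⟩ := h
      obtain ⟨a, ha⟩ := exists_prod h1 hW ok3b h6 h6
      have h7 := le_of_card hj (e := 7) (by rw [card]; norm_num)
      exact ⟨t, h5, eb_of_dvd (a := a) (by rw [T.ord]; exact Nat.dvd_of_mod_eq_zero (beq_iff_eq.1 ha)) h4 (by omega)⟩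
    have h5 : ∀ t ∈ E, t ≠ 1 → T.ty t = 2 := fun t ht h5 =>
      (ty_three (orderOf_eq_prime (hE.2 t ht) h5)).resolve_right fun e => h ⟨t, ht, e⟩
    have h6 := pure_dvd (hW ((irows tb).getD 2 []) (by decide +kernel)) h1 h5
    rw [hj, show nth ((irows tb).getD 2 []) 0 - nth ((irows tb).getD 2 []) 2 = (382536 : ℕ) by decide +kernel,
      Int.natCast_dvd_natCast] at h6
    have h7 : j ≤ 3 := not_lt.1 fun e => absurd ((pow_dvd_pow 3 e).trans h6) (by norm_num)
    obtain ⟨t, h8, h9⟩ := exists_elt (Nat.zero_lt_of_lt h0) hj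
    have h10 := h5 t h8 (by rintro rfl; norm_num at h9)
    obtain ⟨a, ha⟩ := exists_prod h1 hW ok3a h10 h10
    obtain ⟨x, hx⟩ := ex 31 (by norm_num) (by norm_num)
    exact ⟨t, h8, eb_of_dvd (a := a) (by rw [T.ord]; exact Nat.dvd_of_mod_eq_zero (beq_iff_eq.1 ha))
      (eb_two hr ((h4 x hx).exists_frob (e := 0) (n' := 15) (by norm_num) (by norm_num) (by norm_num) hx (by norm_num)
        (by rw [(dat31 hx).2]; norm_num) (fun e => absurd (e.trans (dat31 hx).1) (by norm_num)) (by norm_num)))
      (by omega)⟩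
  by_cases h5 : p = 5
  · subst h5
    refine row_odd ho S2050.result fun E hE j h0 hj => ?_
    obtain ⟨t, h4, h5⟩ := exists_elt (Nat.zero_lt_of_lt h0) hj
    have h6 := le_of_card hj (e := 6) (by rw [card]; norm_num)
    have h7 : j ≠ 6 := by
      rintro rfl
      obtain ⟨s, hs⟩ := TAB.Use.inh_of_mass hm cnt_pos 29 (by decide)
      have h7 : orderOf s = 25 := by rw [T.ord, hs]; rfl
      obtain ⟨u, h8, h9⟩ := exists_conj (s := s) (e := 2) hj (by rw [card]; norm_num)
        (orderOf_dvd_iff_pow_eq_one.1 h7.dvd)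
      obtain ⟨g, rfl⟩ := isConj_iff.1 h9
      have h10 : (g * u * g⁻¹) ^ 5 = 1 := by rw [conj_pow, hE.2 u h8, mul_one, mul_inv_cancel]
      exact absurd (h7 ▸ orderOf_dvd_of_pow_eq_one h10) (by norm_num)
    obtain ⟨x, hx⟩ := ex 37 (by norm_num) (by norm_num)
    obtain ⟨b, h8, h9⟩ := (eb_ord (p := 5) (m := 1) (n := 36) (by norm_num) (by norm_num) hx
      (by decide +kernel)).exists_frob (q := 3) (e := 0) (n' := 24) (by norm_num) (by norm_num) (by norm_num) hx
      (by norm_num) (by rw [(dat37 hx).2]; norm_num) (by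
        rw [H215.CC.LyThirtySeven.card_centralizer (fun _ _ _ _ => S0000.result) ⟨MulEquiv.refl _⟩ hx]
        norm_num) (by norm_num)
    refine ⟨t, h4, ?_⟩
    rcases ty_three (T := T) h8 with e | e
    · obtain ⟨a, ha⟩ := exists_prod_ord h1 hW ok5a h5
      exact (h9.ty hr (((T.pow _ _).trans (beq_iff_eq.1 ha)).trans e.symm)).prod (by omega)
    · obtain ⟨a, ha⟩ := exists_prod_ord h1 hW ok5b h5
      exact (h9.ty hr (((T.pow _ _).trans (beq_iff_eq.1 ha)).trans e.symm)).prod (by omega)
  refine row_sq ho S2050.result fun h1 => ?_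
  rw [card, show 51765179004000000 = 2 ^ 8 * 3 ^ 7 * 5 ^ 6 * (7 * 11 * 31 * 37 * 67) by norm_num] at h1
  have h4 : ∀ {q : ℕ}, q.Prime → p ≠ q → ∀ n, Nat.Coprime (p ^ 2) (q ^ n) := fun hq h n =>
    ((Nat.coprime_primes hp.out hq).2 h).pow _ _
  have h6 := (((h4 Nat.prime_two h2 8).mul_right (h4 Nat.prime_three h3 7)).mul_right
    (h4 (by norm_num) h5 6)).dvd_of_dvd_mul_left h1
  have h7 : Squarefree (7 * 11 * 31 * 37 * 67) := by
    simp only [Nat.squarefree_mul_iff]
    refine ⟨by norm_num, ⟨by norm_num, ⟨by norm_num, ⟨by norm_num, ?_, ?_⟩, ?_⟩, ?_⟩, ?_⟩ <;>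
      exact (Nat.Prime.prime (by norm_num)).squarefree
  exact hp.out.one_lt.ne' (Nat.isUnit_iff.1 (h7 p (by rwa [← pow_two])))

end Cfsg.Agent.TwoF.SpD.Ly
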